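import Groth.Agent.DelIll.K904.LocalCartier
import Groth.Agent.DelIll.K912.AltProp

/-!
# Perfectness of the pairing of exterior powers, with lattices

`L` free over `R` with basis `b : Fin n → L`, `e + j = n`.  Every `R`-linear map `Λ^e → Λ^n` is the right
multiplication by a unique element of `Λ^j`; the statement is compatible with the lattices of forms with
coefficients in a subalgebra.
-/

set_option autoImplicit false

namespace K371.ExtDual

open K912.Alt ExteriorAlgebra Module

section Alg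

variable {R L : Type*} [CommRing R] [AddCommGroup L] [Module R L] {n : ℕ}

theorem ιMulti_mul {a c : ℕ} (v : Fin a → L) (w : Fin c → L) :
    ιMulti R a v * ιMulti R c w = ιMulti R (a + c) (Fin.append v w) := by
  rw [ιMulti_apply, ιMulti_apply, ιMulti_apply, ← List.prod_append]
  congr 1
  have h : (fun i => ι R (Fin.append v w i)) = Fin.append (fun i => ι R (v i)) (fun i => ι R (w i)) := by
    funext i
    refine Fin.addCases (fun i => ?_) (fun i => ?_) i
    · rw [Fin.append_left, Fin.append_left]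
    · rw [Fin.append_right, Fin.append_right]
  rw [h, List.ofFn_fin_append]

variable (b : Basis (Fin n) R L)

/-- A product of pairwise different basis vectors is a basis vector up to sign. -/
theorem ιMulti_inj {a : ℕ} (v : Fin a → Fin n) (hv : Function.Injective v) (s : Finset (Fin n))
    (hs : ∀ x, x ∈ s ↔ x ∈ Set.range v) :
    ∃ u : ℤˣ, ιMulti R a (fun i => b (v i)) = u • b.ExteriorAlgebra s := by
  obtain ⟨m, w, h1, h2, h3, h4⟩ := K904.Ext.exists_basis_eq b s
  have hcard : s.card = a := by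
    have : s = Finset.univ.map ⟨v, hv⟩ := by
      ext x
      rw [hs]
      simp
    rw [this, Finset.card_map, Finset.card_univ, Fintype.card_fin]
  have hma : m = a := h4.trans hcard
  subst hma
  have hr : Set.range v = Set.range w := by
    ext x
    rw [← hs, h2]
  let σ : Equiv.Perm (Fin m) := (Equiv.ofInjective v hv).trans ((Equiv.setCongr hr).trans
    (Equiv.ofInjective w h3).symm)
  have hσ : ∀ i, w (σ i) = v i := by
    intro i
    have := Equiv.apply_ofInjective_symm h3 ((Equiv.setCongr hr) (Equiv.ofInjective v hv i))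
    exact this
  refine ⟨Equiv.Perm.sign σ, ?_⟩
  have h5 := AlternatingMap.map_perm (ιMulti R m (M := L)) (fun i => b (w i)) σ
  rw [h1, ← h5]
  congr 1
  funext i
  exact congrArg b (hσ i).symm

/-- A product of basis vectors is zero or a basis vector up to sign. -/
theorem ιMulti_basis {a : ℕ} (v : Fin a → Fin n) : ιMulti R a (fun i => b (v i)) = 0 ∨
    ∃ (s : Finset (Fin n)) (u : ℤˣ), ιMulti R a (fun i => b (v i)) = u • b.ExteriorAlgebra s := by
  by_cases hv : Function.Injective v
  · right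
    obtain ⟨u, hu⟩ := ιMulti_inj b v hv (Finset.univ.map ⟨v, hv⟩) (fun x => by simp)
    exact ⟨_, u, hu⟩
  · left
    rw [Function.Injective] at hv
    push Not at hv
    obtain ⟨i, i', h, hne⟩ := hv
    exact AlternatingMap.map_eq_zero_of_eq _ _ (congrArg b h) hne

/-- Left multiplication by a basis vector. -/
theorem ι_mul_basis (l : Fin n) (t : Finset (Fin n)) : ι R (b l) * b.ExteriorAlgebra t = 0 ∨
    ∃ (s : Finset (Fin n)) (u : ℤˣ), ι R (b l) * b.ExteriorAlgebra t = u • b.ExteriorAlgebra s := by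
  obtain ⟨m, w, h1, -⟩ := K904.Ext.exists_basis_eq b t
  have h2 : ι R (b l) * b.ExteriorAlgebra t =
      ιMulti R (m + 1) (fun i => b ((Fin.cons l w : Fin (m + 1) → Fin n) i)) := by
    rw [h1, ιMulti_succ_apply]
    rfl
  rw [h2]
  exact ιMulti_basis b _

theorem basis_mul_of_mem {s t : Finset (Fin n)} {l : Fin n} (hs : l ∈ s) (ht : l ∈ t) :
    b.ExteriorAlgebra s * b.ExteriorAlgebra t = 0 := by
  obtain ⟨m, v, h1, h2, -⟩ := K904.Ext.exists_basis_eq b s
  obtain ⟨m', w, h1', h2', -⟩ := K904.Ext.exists_basis_eq b t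
  obtain ⟨i, hi⟩ := (h2 l).1 hs
  obtain ⟨i', hi'⟩ := (h2' l).1 ht
  rw [h1, h1', ιMulti_mul]
  refine AlternatingMap.map_eq_zero_of_eq _ _ (i := Fin.castAdd m' i) (j := Fin.natAdd m i') ?_ ?_
  · rw [Fin.append_left, Fin.append_right, hi, hi']
  · intro h
    have := congrArg Fin.val h
    simp only [Fin.val_castAdd, Fin.val_natAdd] at this
    omega

theorem basis_mul_compl (s : Finset (Fin n)) :
    ∃ u : ℤˣ, b.ExteriorAlgebra s * b.ExteriorAlgebra sᶜ = u • b.ExteriorAlgebra Finset.univ := by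
  obtain ⟨m, v, h1, h2, h3, -⟩ := K904.Ext.exists_basis_eq b s
  obtain ⟨m', w, h1', h2', h3', -⟩ := K904.Ext.exists_basis_eq b sᶜ
  rw [h1, h1', ιMulti_mul]
  have h4 : Fin.append (fun i => b (v i)) (fun i => b (w i)) = fun i => b (Fin.append v w i) := by
    funext i
    refine Fin.addCases (fun i => ?_) (fun i => ?_) i
    · rw [Fin.append_left, Fin.append_left]
    · rw [Fin.append_right, Fin.append_right]
  rw [h4]
  have hne : ∀ i i', v i ≠ w i' := by
    intro i i' h
    have h5 : v i ∈ s := (h2 _).2 ⟨i, rfl⟩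
    have h6 : w i' ∈ sᶜ := (h2' _).2 ⟨i', rfl⟩
    rw [← h, Finset.mem_compl] at h6
    exact h6 h5
  refine ιMulti_inj b (Fin.append v w) ?_ _ fun x => ?_
  · rw [Fin.append_injective_iff]
    exact ⟨h3, h3', hne⟩
  · refine iff_of_true (Finset.mem_univ x) ?_
    by_cases hx : x ∈ s
    · obtain ⟨i, hi⟩ := (h2 x).1 hx
      exact ⟨Fin.castAdd m' i, (Fin.append_left _ _ _).trans hi⟩
    · obtain ⟨i, hi⟩ := (h2' x).1 (Finset.mem_compl.2 hx)
      exact ⟨Fin.natAdd m i, (Fin.append_right _ _ _).trans hi⟩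

/-- The product of two basis vectors of complementary degrees. -/
theorem basis_mul {e j : ℕ} (hej : e + j = n) {s t : Finset (Fin n)} (hs : s.card = e) (ht : t.card = j)
    (h : s ≠ tᶜ) : b.ExteriorAlgebra s * b.ExteriorAlgebra t = 0 := by
  by_cases hd : Disjoint s t
  · exfalso
    apply h
    have h1 : s ⊆ tᶜ := fun x hx => Finset.mem_compl.2 fun hx' => (Finset.disjoint_left.1 hd) hx hx'
    refine Finset.eq_of_subset_of_card_le h1 ?_
    rw [Finset.card_compl, Fintype.card_fin, ht, hs]
    omega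
  · rw [Finset.not_disjoint_iff] at hd
    obtain ⟨l, h1, h2⟩ := hd
    exact basis_mul_of_mem b h1 h2

/-- The coefficient of the top form. -/
theorem top_eq {y : ExteriorAlgebra R L} (hy : y ∈ ⋀[R]^n L) :
    y = b.ExteriorAlgebra.repr y Finset.univ • b.ExteriorAlgebra Finset.univ := by
  obtain ⟨c, rfl⟩ := K904.LocalCartier.mem_degree b n y hy
  have h1 : ∀ s : Set.powersetCard (Fin n) n, s.1 = Finset.univ := fun s =>
    Finset.eq_univ_of_card _ (by rw [s.2, Fintype.card_fin])
  have h2 : ∑ s, c s • b.ExteriorAlgebra s.1 = (∑ s, c s) • b.ExteriorAlgebra Finset.univ := by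
    rw [Finset.sum_smul]
    exact Finset.sum_congr rfl fun s _ => by rw [h1 s]
  rw [h2, map_smul, Finsupp.smul_apply, Basis.repr_self, Finsupp.single_eq_same, smul_eq_mul, mul_one]

variable {e j : ℕ} (hej : e + j = n)

include b hej in
/-- **Nondegeneracy.** -/
theorem eq_zero {x : ExteriorAlgebra R L} (hx : x ∈ ⋀[R]^j L) (h : ∀ y ∈ ⋀[R]^e L, y * x = 0) : x = 0 := by
  classical
  obtain ⟨c, rfl⟩ := K904.LocalCartier.mem_degree b j x hx
  refine Finset.sum_eq_zero fun t _ => ?_
  have hcard : (t.1)ᶜ.card = e := by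
    rw [Finset.card_compl, Fintype.card_fin, t.2]
    omega
  have h1 := h _ (K904.LocalCartier.basis_mem_degree b (t.1)ᶜ hcard)
  rw [Finset.mul_sum, Finset.sum_eq_single t] at h1
  · obtain ⟨u, hu⟩ := basis_mul_compl b (t.1)ᶜ
    rw [compl_compl] at hu
    rw [mul_smul_comm, hu] at h1
    have h2 := congrArg (fun z => b.ExteriorAlgebra.repr (u⁻¹ • z) Finset.univ) h1
    simp only [smul_zero, map_zero, Finsupp.zero_apply] at h2
    rw [smul_comm (u⁻¹) (c t), inv_smul_smul, map_smul, Finsupp.smul_apply, Basis.repr_self,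
      Finsupp.single_eq_same, smul_eq_mul, mul_one] at h2
    rw [h2, zero_smul]
  · intro t' _ ht'
    rw [mul_smul_comm, basis_mul b hej hcard t'.2, smul_zero]
    intro h'
    exact ht' (Subtype.ext (compl_injective h').symm)
  · intro ht
    exact absurd (Finset.mem_univ t) ht

include b hej in
/-- **Representability.** -/
theorem exists_rep (Θ : ExteriorAlgebra R L →+ ExteriorAlgebra R L)
    (hs : ∀ (r : R), ∀ y ∈ ⋀[R]^e L, Θ (r • y) = r • Θ y) (hm : ∀ y ∈ ⋀[R]^e L, Θ y ∈ ⋀[R]^n L) :
    ∃ x ∈ ⋀[R]^j L, ∀ y ∈ ⋀[R]^e L, y * x = Θ y := by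
  classical
  choose u hu using fun t : Finset (Fin n) => basis_mul_compl b tᶜ
  simp only [compl_compl] at hu
  refine ⟨∑ t : Set.powersetCard (Fin n) j, b.ExteriorAlgebra.repr (Θ (b.ExteriorAlgebra (t.1)ᶜ)) Finset.univ •
    ((u t.1)⁻¹ • b.ExteriorAlgebra t.1), ?_, ?_⟩
  · refine Submodule.sum_mem _ fun t _ => Submodule.smul_mem _ _ ?_
    have h1 := K904.LocalCartier.basis_mem_degree b t.1 t.2
    rcases Int.units_eq_one_or (u t.1)⁻¹ with h | h
    · rw [h, one_smul]
      exact h1
    · rw [h, Units.neg_smul, one_smul]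
      exact Submodule.neg_mem _ h1
  · intro y hy
    obtain ⟨c, rfl⟩ := K904.LocalCartier.mem_degree b e y hy
    rw [Finset.sum_mul, map_sum]
    refine Finset.sum_congr rfl fun s _ => ?_
    rw [hs _ _ (K904.LocalCartier.basis_mem_degree b s.1 s.2), smul_mul_assoc]
    congr 1
    have hcard : (s.1)ᶜ.card = j := by
      rw [Finset.card_compl, Fintype.card_fin, s.2]
      omega
    rw [Finset.mul_sum, Finset.sum_eq_single (⟨(s.1)ᶜ, hcard⟩ : Set.powersetCard (Fin n) j)]
    · dsimp only
      rw [compl_compl, mul_smul_comm, mul_smul_comm]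
      have h1 := hu (s.1)ᶜ
      rw [compl_compl] at h1
      rw [h1, inv_smul_smul]
      exact (top_eq b (hm _ (K904.LocalCartier.basis_mem_degree b s.1 s.2))).symm
    · intro t' _ ht'
      rw [mul_smul_comm, mul_smul_comm, basis_mul b hej s.2 t'.2, smul_zero, smul_zero]
      intro h'
      apply ht'
      apply Subtype.ext
      change t'.1 = (s.1)ᶜ
      rw [h', compl_compl]
    · intro ht
      exact absurd (Finset.mem_univ _) ht

end Alg

section Lat

variable {k R L : Type*} [Field k] [CommRing R] [Algebra k R] [AddCommGroup L] [Module R L] [Module k L]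
  [IsScalarTower k R L] {n : ℕ} (b : Basis (Fin n) R L)

/-- The elements with coordinates in `A`. -/
def Co (A : Subalgebra k R) : Submodule k (ExteriorAlgebra R L) where
  carrier := {y | ∀ s, b.ExteriorAlgebra.repr y s ∈ A}
  add_mem' {x y} hx hy s := by
    rw [map_add]
    exact A.add_mem (hx s) (hy s)
  zero_mem' s := by
    rw [map_zero]
    exact A.zero_mem
  smul_mem' t x hx s := by
    rw [← algebraMap_smul R t x, map_smul]
    exact A.mul_mem (A.algebraMap_mem t) (hx s)

theorem mem_Co {A : Subalgebra k R} {y : ExteriorAlgebra R L} :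
    y ∈ Co b A ↔ ∀ s, b.ExteriorAlgebra.repr y s ∈ A := Iff.rfl

theorem smul_mem_Co {A : Subalgebra k R} {y : ExteriorAlgebra R L} (hy : y ∈ Co b A) {a : R} (ha : a ∈ A) :
    a • y ∈ Co b A := by
  intro s
  rw [map_smul]
  exact A.mul_mem ha (hy s)

theorem units_smul_basis_mem_Co (A : Subalgebra k R) (u : ℤˣ) (s : Finset (Fin n)) :
    u • b.ExteriorAlgebra s ∈ Co b A := by
  classical
  have h : b.ExteriorAlgebra s ∈ Co b A := by
    intro t
    rw [Basis.repr_self, Finsupp.single_apply]
    split_ifs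
    · exact A.one_mem
    · exact A.zero_mem
  rcases Int.units_eq_one_or u with hu | hu
  · rw [hu, one_smul]
    exact h
  · rw [hu, Units.neg_smul, one_smul]
    exact Submodule.neg_mem _ h

variable {A : Subalgebra k R}

theorem ι_mul_mem_Co {w : L} (hw : ∀ l, b.repr w l ∈ A) {y : ExteriorAlgebra R L} (hy : y ∈ Co b A) :
    ι R w * y ∈ Co b A := by
  rw [← b.sum_repr w, map_sum, Finset.sum_mul]
  refine Submodule.sum_mem _ fun l _ => ?_
  rw [map_smul, smul_mul_assoc]
  refine smul_mem_Co b ?_ (hw l)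
  rw [← b.ExteriorAlgebra.sum_repr y, Finset.mul_sum]
  refine Submodule.sum_mem _ fun t _ => ?_
  rw [mul_smul_comm]
  refine smul_mem_Co b ?_ (hy t)
  rcases ι_mul_basis b l t with h | ⟨s, u, h⟩
  · rw [h]
    exact Submodule.zero_mem _
  · rw [h]
    exact units_smul_basis_mem_Co b A u s

theorem one_mem_Co : (1 : ExteriorAlgebra R L) ∈ Co b A := by
  have h1 : (1 : ExteriorAlgebra R L) = ιMulti R 0 (fun i : Fin 0 => b (i.elim0)) := (ιMulti_zero_apply _).symm
  rw [h1]
  rcases ιMulti_basis b (fun i : Fin 0 => (i.elim0 : Fin n)) with h | ⟨s, u, h⟩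
  · rw [h]
    exact Submodule.zero_mem _
  · rw [h]
    exact units_smul_basis_mem_Co b A u s

theorem lat_le_Co {N : Submodule k L} (hN : ∀ w ∈ N, ∀ l, b.repr w l ∈ A) (a : ℕ) :
    lat (Subalgebra.toSubmodule A) N a ≤ Co b A := by
  refine Submodule.span_le.2 ?_
  rintro _ ⟨q, hq, w, hw, rfl⟩
  refine smul_mem_Co b ?_ hq
  induction a with
  | zero =>
    rw [ιMulti_zero_apply]
    exact one_mem_Co b
  | succ a ih =>
    rw [ιMulti_succ_apply]
    exact ι_mul_mem_Co b (hN _ (hw 0)) (ih (Matrix.vecTail w) fun j => hw j.succ)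

theorem basis_mem_lat {N : Submodule k L} (hN : ∀ w, (∀ l, b.repr w l ∈ A) → w ∈ N) {a : ℕ}
    (s : Finset (Fin n)) (hs : s.card = a) {q : R} (hq : q ∈ A) :
    q • b.ExteriorAlgebra s ∈ lat (Subalgebra.toSubmodule A) N a := by
  classical
  obtain ⟨m, v, h1, -, -, h2⟩ := K904.Ext.exists_basis_eq b s
  have hm : m = a := h2.trans hs
  subst hm
  rw [h1]
  refine smul_ιMulti_mem hq fun i => hN _ fun l => ?_
  rw [Basis.repr_self, Finsupp.single_apply]
  split_ifs
  · exact A.one_mem
  · exact A.zero_mem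

/-- The lattice in terms of coordinates. -/
theorem mem_lat_iff {N : Submodule k L} (hN : ∀ w, w ∈ N ↔ ∀ l, b.repr w l ∈ A) {a : ℕ}
    {x : ExteriorAlgebra R L} (hx : x ∈ ⋀[R]^a L) :
    x ∈ lat (Subalgebra.toSubmodule A) N a ↔ ∀ s, b.ExteriorAlgebra.repr x s ∈ A := by
  classical
  constructor
  · intro h
    exact lat_le_Co b (fun w hw => (hN w).1 hw) a h
  · intro h
    obtain ⟨c, rfl⟩ := K904.LocalCartier.mem_degree b a x hx
    refine Submodule.sum_mem _ fun s _ => basis_mem_lat b (fun w hw => (hN w).2 hw) s.1 s.2 ?_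
    have h1 := h s.1
    rw [map_sum, Finset.sum_apply', Finset.sum_eq_single s] at h1
    · rwa [map_smul, Finsupp.smul_apply, Basis.repr_self, Finsupp.single_eq_same, smul_eq_mul, mul_one] at h1
    · intro t _ ht
      rw [map_smul, Finsupp.smul_apply, Basis.repr_self, Finsupp.single_eq_of_ne, smul_zero]
      intro h'
      exact ht (Subtype.ext h'.symm)
    · intro hs
      exact absurd (Finset.mem_univ s) hs

variable {e j : ℕ} (hej : e + j = n)

include hej in
/-- **The lattices are dual to each other.** -/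
theorem mem_lat (A : Subalgebra k R) (N : Submodule k L) (hN : ∀ w, w ∈ N ↔ ∀ l, b.repr w l ∈ A)
    {x : ExteriorAlgebra R L} (hx : x ∈ ⋀[R]^j L)
    (h : ∀ y ∈ lat (Subalgebra.toSubmodule A) N e, y * x ∈ lat (Subalgebra.toSubmodule A) N n) :
    x ∈ lat (Subalgebra.toSubmodule A) N j := by
  classical
  obtain ⟨c, rfl⟩ := K904.LocalCartier.mem_degree b j x hx
  refine Submodule.sum_mem _ fun t _ => basis_mem_lat b (fun w hw => (hN w).2 hw) t.1 t.2 ?_
  have hcard : (t.1)ᶜ.card = e := by
    rw [Finset.card_compl, Fintype.card_fin, t.2]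
    omega
  have h0 := basis_mem_lat b (fun w hw => (hN w).2 hw) (t.1)ᶜ hcard A.one_mem
  rw [one_smul] at h0
  have h1 := lat_le_Co b (fun w hw => (hN w).1 hw) n (h _ h0)
  rw [Finset.mul_sum, Finset.sum_eq_single t] at h1
  · obtain ⟨u, hu⟩ := basis_mul_compl b (t.1)ᶜ
    rw [compl_compl] at hu
    rw [mul_smul_comm, hu] at h1
    have h2 : c t • b.ExteriorAlgebra Finset.univ ∈ Co b A := by
      rcases Int.units_eq_one_or u with hu | hu
      · rwa [hu, one_smul] at h1
      · rw [hu, Units.neg_smul, one_smul, smul_neg] at h1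
        exact (Submodule.neg_mem_iff _).1 h1
    have h3 := h2 Finset.univ
    rwa [map_smul, Finsupp.smul_apply, Basis.repr_self, Finsupp.single_eq_same, smul_eq_mul, mul_one] at h3
  · intro t' _ ht'
    rw [mul_smul_comm, basis_mul b hej hcard t'.2, smul_zero]
    intro h'
    exact ht' (Subtype.ext (compl_injective h').symm)
  · intro ht
    exact absurd (Finset.mem_univ t) ht

end Lat

end K371.ExtDual
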