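import Groth.Agent.DelIll.K371.ExtDual
import Groth.Agent.DelIll.K912.Geo

/-!
# The lattices of one-forms in terms of a basis over the ambient open
-/

set_option autoImplicit false

universe u

open CategoryTheory CategoryTheory.Limits AlgebraicGeometry Opposite TopologicalSpace
open Groth.Agent.Sga67.Sec Groth.Agent.Sga67.LocBasis
open K912.Alt K912.Twist K912.Frame K912.LatCmp K912.Asm

namespace K371.GeoBasis

attribute [local instance] algV modS

variable {p : ℕ} {k : Type u} [Field k] {X : Scheme.{u}} [X.Over (Spec (CommRingCat.of k))]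
  {E : X.Modules} {n : ℕ} (G : Geo p k X E n)

/-- The restriction to `V₀` of the local basis over the chart `i`. -/
noncomputable def bV (i : G.ι) : Module.Basis (Fin n) G.R G.L := (G.hb i).basis (G.le i)

theorem mem_Ns {s : Set G.ι} {i : G.ι} (hi : i ∈ s) (w : G.L) :
    w ∈ G.Ns s ↔ ∀ l, (bV G i).repr w l ∈ G.As s := by
  have hU : Us (fun i => (G.U i).1) s ≤ (G.U i).1 := iInf_le_of_le i (iInf_le_of_le hi le_rfl)
  have h₀ := le_Us (fun i => (G.U i).1) G.le s
  constructor
  · rintro ⟨x, rfl⟩ l
    obtain ⟨c, rfl⟩ := (G.hb i _ hU).2 x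
    have h1 : res E h₀ (comb (G.b i) hU c) = ∑ l, resO X h₀ (c l) • bV G i l := by
      rw [res_comb, comb_apply]
      refine Finset.sum_congr rfl fun l _ => ?_
      rw [bV, IsLocBasis.basis_apply]
    change (bV G i).repr (res E h₀ (comb (G.b i) hU c)) l ∈ G.As s
    rw [h1, map_sum, Finset.sum_apply', Finset.sum_eq_single l]
    · rw [map_smul, Finsupp.smul_apply, Module.Basis.repr_self, Finsupp.single_eq_same, smul_eq_mul, mul_one]
      exact ⟨c l, rfl⟩
    · intro l' _ hl'
      rw [map_smul, Finsupp.smul_apply, Module.Basis.repr_self, Finsupp.single_eq_of_ne hl'.symm, smul_zero]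
    · intro hl
      exact absurd (Finset.mem_univ l) hl
  · intro h
    choose c hc using h
    refine ⟨comb (G.b i) hU c, ?_⟩
    change res E h₀ (comb (G.b i) hU c) = w
    rw [res_comb, comb_apply, ← (bV G i).sum_repr w]
    refine Finset.sum_congr rfl fun l _ => ?_
    rw [← hc l, bV, IsLocBasis.basis_apply]
    rfl

end K371.GeoBasis
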